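import Cfsg.Agent.QT.Basic
import Cfsg.Agent.FT.BG4.Aut
import Cfsg.Agent.Cor.OddSol
import Cfsg.Agent.Solv.UniqueInvol
import Cfsg.Agent.Local.SL2Pair
import Cfsg.Agent.Trans.SmallOrderAction

/-! Perfect subgroups of groups of `p`-rank at most two. -/

set_option autoImplicit false

namespace Cfsg.Lib.QT

open Subgroup Cfsg.Lib.Solv Cfsg.Lib.Trans
open scoped Pointwise commutatorElement

universe u

variable {X : Type u} [Group X] {p : ℕ}

theorem solv_of_pgroup [Finite X] [Fact p.Prime] {K : Subgroup X} (h : IsPGroup p K) :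
    Group.IsSolvable K := Cor.isSolvable_of_isPGroup h

/-- A perfect group with at most one involution has no proper nontrivial perfect normal subgroup. -/
theorem eq_top_of_unique_involution [Finite X] (hX : ⁅(⊤ : Subgroup X), (⊤ : Subgroup X)⁆ = ⊤)
    (hi : ∀ x y : X, orderOf x = 2 → orderOf y = 2 → x = y) {N : Subgroup X} [N.Normal]
    (hN : ⁅N, N⁆ = N) (h0 : N ≠ ⊥) : N = ⊤ := by
  obtain ⟨S⟩ : Nonempty (Sylow 2 N) := inferInstance
  obtain ⟨T, hT⟩ := (S.isPGroup'.map N.subtype).exists_le_sylow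
  obtain ⟨c, hcT, hc⟩ : ∃ c ∈ (T : Subgroup X), ∀ x ∈ (T : Subgroup X), ∀ y ∈ (T : Subgroup X),
      x ∈ zpowers c ∨ y ∈ zpowers c ∨ x * y ∈ zpowers c := by
    rcases PG.isCyclic_or_exists_gens_of_unique_involution T.isPGroup' (fun x y hx hy =>
      Subtype.ext (hi x y (by rwa [orderOf_coe]) (by rwa [orderOf_coe]))) with h | ⟨a, x, n, -, h1, -, -, h2, -⟩
    · obtain ⟨c, hc⟩ := h.exists_generator
      exact ⟨c, c.2, fun x hx _ _ => Or.inl (by
        obtain ⟨k, hk⟩ := hc ⟨x, hx⟩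
        exact ⟨k, congrArg Subtype.val hk⟩)⟩
    · have h3 : (zpowers a).index = 2 := by
        have := (zpowers a).card_mul_index
        rw [Nat.card_zpowers, h1, h2, pow_succ] at this
        exact Nat.eq_of_mul_eq_mul_left (by positivity) this
      have h4 : ∀ z : (T : Subgroup X), z ∈ zpowers a → (z : X) ∈ zpowers (a : X) := by
        rintro _ ⟨k, rfl⟩
        exact ⟨k, rfl⟩
      refine ⟨a, a.2, fun x hx y hy => ?_⟩
      by_cases h5 : (⟨x, hx⟩ : (T : Subgroup X)) ∈ zpowers a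
      · exact Or.inl (h4 _ h5)
      by_cases h6 : (⟨y, hy⟩ : (T : Subgroup X)) ∈ zpowers a
      · exact Or.inr (Or.inl (h4 _ h6))
      exact Or.inr (Or.inr (h4 (⟨x, hx⟩ * ⟨y, hy⟩) ((mul_mem_iff_of_index_two h3).2
        (iff_of_false h5 h6))))
  obtain ⟨x, hxS, hx⟩ : ∃ x ∈ (S : Subgroup N).map N.subtype, x ∉ zpowers c := by
    by_contra! h
    have h1 : IsCyclic ((S : Subgroup N).map N.subtype) := isCyclic_of_le h
    exact h0 (eq_bot_of_perfect_of_isSolvable hN (Cor.isSolvable_of_isCyclic_sylow_two S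
      ((equivMapOfInjective _ _ N.subtype_injective).isCyclic.2 h1)))
  have hxN : QuotientGroup.mk' N x = 1 := (QuotientGroup.eq_one_iff x).2 (map_subtype_le _ hxS)
  have h2 : (T : Subgroup X).map (QuotientGroup.mk' N) ≤ zpowers (QuotientGroup.mk' N c) := by
    rw [← MonoidHom.map_zpowers]
    rintro _ ⟨y, hy, rfl⟩
    rcases hc x (hT hxS) y hy with h | h | h
    · exact absurd h hx
    · exact mem_map_of_mem _ h
    · exact ⟨x * y, h, by rw [map_mul, hxN, one_mul]⟩
  have h3 : Group.IsSolvable (X ⧸ N) := Cor.isSolvable_of_isCyclic_sylow_two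
    (T.mapSurjective (QuotientGroup.mk'_surjective N)) (isCyclic_of_le h2)
  have h4 := perfect_le_ker_of_isSolvable hX (QuotientGroup.mk' N) inferInstance
  rwa [QuotientGroup.ker_mk', top_le_iff] at h4

/-- The subgroup form of `eq_top_of_unique_involution`. -/
theorem eq_of_unique_involution [Finite X] {L W : Subgroup X} (hW : ⁅W, W⁆ = W)
    (hi : ∀ x ∈ W, ∀ y ∈ W, orderOf x = 2 → orderOf y = 2 → x = y) (hL : ⁅L, L⁆ = L) (h0 : L ≠ ⊥)
    (hLW : L ≤ W) (hn : W ≤ normalizer (L : Set X)) : W ≤ L := by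
  have := (normal_subgroupOf_iff_le_normalizer hLW).2 hn
  have h1 : ⁅(⊤ : Subgroup W), (⊤ : Subgroup W)⁆ = ⊤ := by
    have := perfect_subgroupOf hW le_rfl
    rwa [subgroupOf_self] at this
  exact subgroupOf_eq_top.1 (eq_top_of_unique_involution h1 (fun x y hx hy =>
    Subtype.ext (hi x x.2 y y.2 (by rwa [orderOf_coe]) (by rwa [orderOf_coe])))
    (perfect_subgroupOf hL hLW) fun h => h0 (by
      rw [← map_subgroupOf_eq_of_le hLW, h, Subgroup.map_bot]))

/-- A perfect group of automorphisms of an elementary abelian group of order at most `p ^ 2` has at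
most one involution. -/
theorem unique_involution_of_perfect [hp : Fact p.Prime] (hp2 : p ≠ 2) {V : Type*} [Group V]
    [Finite V] [ElemAb p V] (hV : Nat.card V ≤ p ^ 2) {W : Subgroup (MulAut V)} (hW : ⁅W, W⁆ = W) :
    ∀ x ∈ W, ∀ y ∈ W, orderOf x = 2 → orderOf y = 2 → x = y := by
  obtain ⟨n, hn, hc⟩ := FT.BG4.exists_card_eq_pow_le_two (ElemAb.isPGroup p V) hV
  rcases hn.lt_or_eq with hn | rfl
  · have : IsCyclic V := (ElemAb.isCyclic_iff_card_le p).2 (by
      rw [hc]
      exact (Nat.pow_le_pow_right hp.out.pos (Nat.lt_succ_iff.1 hn)).trans (pow_one p).le)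
    have h0 : W = ⊥ := by
      rw [← hW, eq_bot_iff, commutator_le]
      exact fun a _ b _ => mem_bot.2
        (commutatorElement_eq_one_iff_mul_comm.2 (FT.BG4.mulAut_comm_of_isCyclic a b))
    intro x hx y hy _ _
    rw [h0, mem_bot] at hx hy
    rw [hx, hy]
  · obtain ⟨e⟩ := Vec.nonempty_autEquivGL (p := p) hc
    have hd := perfect_le_ker_of_isSolvable hW
      (Matrix.GeneralLinearGroup.det.comp e.toMonoidHom) inferInstance
    have key : ∀ x ∈ W, orderOf x = 2 → ((e x : GL (Fin 2) (ZMod p)) : Matrix (Fin 2) (Fin 2) (ZMod p)) = -1 := by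
      intro x hx h2
      have h3 : ((e x : GL (Fin 2) (ZMod p)) : Matrix (Fin 2) (Fin 2) (ZMod p)).det = 1 :=
        congrArg Units.val (hd hx)
      have h4 : e x * e x = 1 := by
        rw [← map_mul, ← pow_two, orderOf_dvd_iff_pow_eq_one.1 h2.dvd, map_one]
      rcases Local.SL2.eq_of_mul_self (F := ZMod p) (by rw [ZMod.card]; exact hp.out.odd_of_ne_two hp2)
        (g := ⟨_, h3⟩) (Subtype.ext (congrArg Units.val h4)) with h | h
      · have h5 : e x = 1 := Units.ext (congrArg Subtype.val h)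
        rw [(MulEquiv.map_eq_one_iff e).1 h5, orderOf_one] at h2
        exact absurd h2 (by norm_num)
      · exact congrArg Subtype.val h
    exact fun x hx y hy h1 h2 => e.injective (Units.ext ((key x hx h1).trans (key y hy h2).symm))

/-- The action on the Frattini quotient of a critical subgroup of `O_p(X)`. -/
theorem exists_rho [Finite X] [Fact p.Prime] (hp2 : p ≠ 2) (hr : PRankLE p 2 X) :
    ∃ (V : Type u) (_ : Group V) (_ : Finite V) (_ : ElemAb p V) (ρ : X →* MulAut V),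
      Nat.card V ≤ p ^ 2 ∧
      IsPGroup p (ρ.ker.map (MulAut.conjNormal : X →* MulAut (pCore p X))) := by
  obtain ⟨V, _, _, _, θ, h1, h2⟩ := FT.BG4.exists_rep_rank2 hp2 (pCore_isPGroup p X)
    (FT.BG4.pRankLE_subgroup hr (pCore p X))
  refine ⟨V, _, inferInstance, inferInstance, θ.comp MulAut.conjNormal, h1, h2.to_le ?_⟩
  rw [← MonoidHom.comap_ker]
  exact map_comap_le _ _

theorem ker_conjNormal (N : Subgroup X) [N.Normal] :
    (MulAut.conjNormal : X →* MulAut N).ker = centralizer (N : Set X) := by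
  ext g
  rw [MonoidHom.mem_ker, mem_centralizer_iff, MulEquiv.ext_iff]
  refine ⟨fun h x hx => ?_, fun h x => Subtype.ext ?_⟩
  · have : g * x * g⁻¹ = x := congrArg Subtype.val (h ⟨x, hx⟩)
    rw [← mul_inv_eq_iff_eq_mul.1 this]
  · show g * x * g⁻¹ = x
    rw [← h x x.2, mul_inv_cancel_right]

theorem exists_ker [Finite X] [Fact p.Prime] (hp2 : p ≠ 2) (hr : PRankLE p 2 X) :
    ∃ K : Subgroup X, K.Normal ∧
      (∀ L : Subgroup X, ⁅L, L⁆ = L → L ≤ K → L ≤ centralizer (pCore p X : Set X)) ∧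
      ∀ L W : Subgroup X, ⁅L, L⁆ = L → ⁅W, W⁆ = W → L ≤ W → W ≤ normalizer (L : Set X) →
        L ≤ K ∨ W ≤ L ⊔ K := by
  obtain ⟨V, _, _, _, ρ, h1, h2⟩ := exists_rho hp2 hr
  refine ⟨ρ.ker, inferInstance, fun L hL h => ?_, fun L W hL hW h hn => ?_⟩
  · rw [← ker_conjNormal]
    exact perfect_le_ker_of_isSolvable hL _ (solv_of_pgroup (h2.to_le (map_mono h)))
  · refine (em _).imp_right fun h0 => ?_
    rw [← comap_map_eq, ← map_le_iff_le_comap]
    exact eq_of_unique_involution (perfect_map hW ρ)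
      (unique_involution_of_perfect hp2 h1 (perfect_map hW ρ)) (perfect_map hL ρ)
      (fun h3 => h0 ((Subgroup.map_eq_bot_iff L).1 h3)) (map_mono h)
      ((map_mono hn).trans (le_normalizer_map ρ))

/-- A perfect group has a noncentral element of each odd prime order dividing its order. -/
theorem exists_pow_eq_one_not_mem_centralizer [Finite X] [Fact p.Prime] (hp2 : p ≠ 2)
    {L : Subgroup X} (hL : ⁅L, L⁆ = L) (hd : p ∣ Nat.card L) :
    ∃ x ∈ L, x ^ p = 1 ∧ x ∉ centralizer (L : Set X) := by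
  by_contra! h
  obtain ⟨P⟩ : Nonempty (Sylow p L) := inferInstance
  have h1 : HasNormalPComplement p L :=
    hasNormalPComplement_of_small_mem_upperCentralSeries P fun a _ h4 => ⟨1, by
      rw [Subgroup.upperCentralSeries_one, mem_center_iff]
      exact fun g => Subtype.ext (h a a.2
        (congrArg Subtype.val (h4.resolve_right fun h => hp2 h.1)) g g.2)⟩
  have h2 : ⁅(⊤ : Subgroup L), (⊤ : Subgroup L)⁆ = ⊤ := by
    have := perfect_subgroupOf hL le_rfl
    rwa [subgroupOf_self] at this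
  have h3 := perfect_le_ker_of_isSolvable h2 (QuotientGroup.mk' (pResidual p L))
    (solv_of_pgroup (isPGroup_quotient_pResidual.to_subgroup _))
  rw [QuotientGroup.ker_mk', top_le_iff] at h3
  rw [hasNormalPComplement_iff_not_dvd, h3, card_top] at h1
  exact h1 hd

/-- An elementary abelian subgroup centralising a perfect group grows. -/
theorem exists_ea_step [Finite X] [hp : Fact p.Prime] (hp2 : p ≠ 2) {L E : Subgroup X}
    (hL : ⁅L, L⁆ = L) (hd : p ∣ Nat.card L) (hE : IsElementaryAbelian p E)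
    (hc : E ≤ centralizer (L : Set X)) :
    ∃ E' ≤ E ⊔ L, IsElementaryAbelian p E' ∧ p * Nat.card E ≤ Nat.card E' := by
  obtain ⟨x, hx, h1, h2⟩ := exists_pow_eq_one_not_mem_centralizer hp2 hL hd
  have h3 : IsElementaryAbelian p (E ⊔ zpowers x : Subgroup X) :=
    FT.BG4.isElementaryAbelian_sup_zpowers hE (le_centralizer_iff.1 hc hx) h1
  refine ⟨E ⊔ zpowers x, sup_le_sup_left (zpowers_le.2 hx) _, h3,
    PG.prime_mul_card_le_of_lt ?_ (left_lt_sup.2 fun h => h2 (hc (h (mem_zpowers x))))⟩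
  exact fun a => ⟨1, Subtype.ext (by rw [pow_one]; exact h3.2 a a.2)⟩

theorem ea_bot : IsElementaryAbelian p (⊥ : Subgroup X) :=
  ⟨inferInstance, fun a ha => by rw [mem_bot.1 ha, one_pow]⟩

theorem not_three_commuting [Finite X] [hp : Fact p.Prime] (hp2 : p ≠ 2) (hr : PRankLE p 2 X)
    {A B C : Subgroup X} (hA : ⁅A, A⁆ = A) (hB : ⁅B, B⁆ = B) (hC : ⁅C, C⁆ = C)
    (dA : p ∣ Nat.card A) (dB : p ∣ Nat.card B) (dC : p ∣ Nat.card C)
    (hAB : A ≤ centralizer (B : Set X)) (hAC : A ≤ centralizer (C : Set X))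
    (hBC : B ≤ centralizer (C : Set X)) : False := by
  obtain ⟨E, h1, h2, h3⟩ := exists_ea_step hp2 hA dA ea_bot bot_le
  rw [bot_sup_eq] at h1
  obtain ⟨E', h4, h5, h6⟩ := exists_ea_step hp2 hB dB h2 (h1.trans hAB)
  obtain ⟨E'', -, h7, h8⟩ := exists_ea_step hp2 hC dC h5 (h4.trans (sup_le (h1.trans hAC) hBC))
  have h9 := hr E'' h7.1 h7.2
  rw [card_bot] at h3
  have := hp.out.two_le
  have : p * (p * (p * 1)) ≤ p ^ 2 :=
    (Nat.mul_le_mul_left _ ((Nat.mul_le_mul_left _ h3).trans h6)).trans (h8.trans h9)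
  nlinarith

theorem pRankLE_one_of_le_centralizer [Finite X] [hp : Fact p.Prime] (hp2 : p ≠ 2)
    (hr : PRankLE p 2 X) {L K : Subgroup X} (hK : ⁅K, K⁆ = K) (hd : Nat.card L ∣ Nat.card K)
    (hc : L ≤ centralizer (K : Set X)) : PRankLE p 1 L := by
  refine FT.BG4.pRankLE_subgroup_iff.2 fun E hE h => ?_
  by_cases h0 : E = ⊥
  · rw [h0, card_bot]
    exact Nat.one_le_pow _ _ hp.out.pos
  have h1 : IsPGroup p E := fun a => ⟨1, Subtype.ext (by rw [pow_one]; exact h.2 a a.2)⟩
  obtain ⟨E', -, h2, h3⟩ := exists_ea_step hp2 hK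
    (((h1.card_eq_or_dvd.resolve_left fun e => h0 (card_eq_one.1 e)).trans
      (card_dvd_of_le hE)).trans hd) h (hE.trans hc)
  have := h3.trans (hr E' h2.1 h2.2)
  rw [pow_two] at this
  rw [pow_one]
  exact Nat.le_of_mul_le_mul_left this hp.out.pos

theorem exists_odd_prime_dvd [Finite X] {L : Subgroup X} (h : ¬ Group.IsSolvable L) :
    ∃ p : ℕ, p.Prime ∧ p ≠ 2 ∧ p ∣ Nat.card L := by
  by_contra! h1
  refine h (solv_of_pgroup (p := 2) (isPGroup_iff_isPiNum.2 fun q hq hd => ?_))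
  by_contra h2
  exact h1 q hq h2 hd

/-- A perfect subgroup whose conjugates commute has at most two conjugates. -/
theorem index_normalizer_eq_two [Finite X] (hX : IsStronglyQuasithin X) {L : Subgroup X}
    (hL : ⁅L, L⁆ = L) (hn : ¬ L.Normal) (hc : ∀ g h : X, MulAut.conj g • L ≠ MulAut.conj h • L →
      MulAut.conj g • L ≤ centralizer ((MulAut.conj h • L : Subgroup X) : Set X)) :
    (normalizer (L : Set X)).index = 2 := by
  obtain ⟨p, hp, hp2, hd⟩ := exists_odd_prime_dvd (L := L) fun hs => hn (by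
    rw [eq_bot_of_perfect_of_isSolvable hL hs]; infer_instance)
  have := Fact.mk hp
  obtain ⟨a, ha⟩ : ∃ a, a ∉ normalizer (L : Set X) := by
    by_contra! h
    exact hn (normalizer_eq_top_iff.1 (eq_top_iff.2 fun x _ => h x))
  have key : ∀ g h : X, MulAut.conj g • L = MulAut.conj h • L → h⁻¹ * g ∈ normalizer (L : Set X) := by
    intro g h e
    rw [mem_normalizer_iff_conj_smul_eq, conj_mul_smul, e, conj_inv_smul_conj_smul]
  refine index_eq_two_iff.2 ⟨a, fun b => ?_⟩
  by_cases hb : b ∈ normalizer (L : Set X)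
  · exact Or.inr ⟨hb, fun h => ha ((mul_mem_cancel_left hb).1 h)⟩
  refine Or.inl ⟨?_, hb⟩
  by_contra h
  have pf : ∀ g : X, ⁅MulAut.conj g • L, MulAut.conj g • L⁆ = MulAut.conj g • L :=
    fun g => perfect_map hL _
  have cd : ∀ g : X, p ∣ Nat.card (MulAut.conj g • L : Subgroup X) := fun g => by
    rwa [card_conj_smul]
  refine not_three_commuting hp2 (hX p hp hp2) (pf a) (pf 1) (pf b⁻¹) (cd _) (cd _) (cd _)
    (hc _ _ fun e => ha ?_) (hc _ _ fun e => h ?_) (hc _ _ fun e => hb ?_)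
  · simpa using key _ _ e
  · simpa using key _ _ e
  · simpa using key _ _ e

/-- The `p`-rank does not grow in a quotient by a `p'`-group. -/
theorem pRankLE_of_surjective [Finite X] [hp : Fact p.Prime] {Y : Type*} [Group Y] {k : ℕ}
    (hr : PRankLE p k X) (f : X →* Y) (hf : Function.Surjective f)
    (hk : (Nat.card f.ker).Coprime p) : PRankLE p k Y := by
  intro E h1 h2
  have := Finite.of_surjective f hf
  have hE : IsPGroup p E := fun a => ⟨1, Subtype.ext (by rw [pow_one]; exact h2 a a.2)⟩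
  obtain ⟨S, hS⟩ := hE.exists_le_sylow
  obtain ⟨T, rfl⟩ := Sylow.mapSurjective_surjective hf p S
  have hi : ∀ a ∈ (T : Subgroup X), f a = 1 → a = 1 := fun a ha h => by
    rw [← mem_bot, ← inf_eq_bot_of_isPGroup_of_coprime T.isPGroup' hk]
    exact ⟨ha, h⟩
  have h3 := hr (T ⊓ E.comap f) ⟨⟨fun a b => Subtype.ext ?_⟩⟩ fun a ha => hi _ (pow_mem ha.1 p) (by
    rw [map_pow]; exact h2 _ ha.2)
  · refine le_trans (Nat.card_le_card_of_surjective
      (fun x : (T ⊓ E.comap f : Subgroup X) => (⟨f x, x.2.2⟩ : E)) fun y => ?_) h3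
    obtain ⟨x, hx, e⟩ := hS y.2
    exact ⟨⟨x, hx, show f x ∈ E from e ▸ y.2⟩, Subtype.ext e⟩
  · refine commutatorElement_eq_one_iff_mul_comm.1 (hi _ ?_ ?_)
    · exact mul_mem (mul_mem (mul_mem a.2.1 b.2.1) (inv_mem a.2.1)) (inv_mem b.2.1)
    · rw [map_commutatorElement, commutatorElement_eq_one_iff_mul_comm]
      exact congrArg Subtype.val (h1.is_comm.comm (⟨f a, a.2.2⟩ : E) ⟨f b, b.2.2⟩)

end Cfsg.Lib.QT
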