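import Cfsg.Agent.FT.BG4.Blackburn
import Cfsg.Agent.Solv.SectionAut
import Cfsg.Agent.Solv.FrattiniP
import Cfsg.Agent.Solv.PGroupBasic

/-!
An odd `p`-group `P` (elementary of order `p ^ 2` or nonabelian of order `p ^ 3`) with a `2`-group
`S` acting irreducibly on `P / P'`.
-/

set_option autoImplicit false
set_option linter.unusedSectionVars false
set_option linter.unusedVariables false

open Pointwise Cfsg Cfsg.Lib.Solv Cfsg.Lib.FT Cfsg.Lib.FT.BG4 Subgroup
open scoped commutatorElement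

namespace Cfsg.Lib.QT

/-- A `2`-group acting irreducibly on a noncyclic abelian group contains an element acting by
inversion. -/
theorem exists_inverting {V A : Type*} [Group V] [Finite V] [Group A] [Finite A]
    (hV : ∀ a b : V, a * b = b * a) (hA : IsPGroup 2 A) (φ : A →* MulAut V)
    (hirr : ∀ U : Subgroup V, (∀ a, ∀ u ∈ U, φ a u ∈ U) → U = ⊥ ∨ U = ⊤) (hnc : ¬ IsCyclic V) :
    ∃ a, ∀ v, v * φ a v = 1 := by
  have : Fact (Nat.Prime 2) := ⟨Nat.prime_two⟩
  have hR : IsPGroup 2 φ.range := hA.of_surjective _ φ.rangeRestrict_surjective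
  have hne : φ.range ≠ ⊥ := by
    intro h
    apply hnc
    rcases subsingleton_or_nontrivial V with hs | hs
    · infer_instance
    obtain ⟨v, hv⟩ := exists_ne (1 : V)
    rcases hirr (zpowers v) (fun a u hu => by
      have : φ a = 1 := by rw [← mem_bot, ← h]; exact ⟨a, rfl⟩
      rw [this]; exact hu) with h1 | h1
    · exact absurd (zpowers_eq_bot.1 h1) hv
    · exact ⟨⟨v, fun x => by have : x ∈ zpowers v := h1 ▸ mem_top x; exact this⟩⟩
  have hc : centerOf φ.range ≠ ⊥ := fun h => hne ((center_nil_eq1 (pgroup_nil hR)).1 h)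
  have hc2 : IsPGroup 2 (centerOf φ.range) := isPGroupS inf_le_left hR
  have hd : 2 ∣ Nat.card (centerOf φ.range) := by
    obtain ⟨m, hm⟩ := pgroup_card_pow hc2
    rcases m with _ | m
    · exact absurd (trivg_card1.2 (by simpa using hm)) hc
    · rw [hm]; exact dvd_pow_self 2 (Nat.succ_ne_zero m)
  obtain ⟨ζ, ⟨⟨a, rfl⟩, hζ⟩, ho⟩ := Cauchy Nat.prime_two hd
  have h2 : φ a * φ a = 1 := by rw [← sq, ← ho, pow_orderOf_eq_one]
  have h1 : φ a ≠ 1 := fun h => by rw [h, orderOf_one] at ho; omega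
  let U : Subgroup V := (φ a).toMonoidHom.eqLocus (MonoidHom.id V)
  have hU : ∀ v, v ∈ U ↔ φ a v = v := fun v => Iff.rfl
  rcases hirr U (fun b u hu => by
    rw [hU] at hu ⊢
    have := (mem_cent.1 hζ) (φ b) ⟨b, rfl⟩
    rw [← MulAut.mul_apply, ← this, MulAut.mul_apply, hu]) with h | h
  · refine ⟨a, fun v => ?_⟩
    rw [← mem_bot, ← h, hU, map_mul, ← MulAut.mul_apply, h2, MulAut.one_apply, hV]
  · exact absurd (MulEquiv.ext fun v => (hU v).1 (h ▸ mem_top v)) h1

variable {G : Type*} [Group G]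

/-- The basic configuration: `P` is an odd `p`-group, elementary of order `p ^ 2` or nonabelian of
order `p ^ 3`, normalised by the `2`-group `S` that is irreducible on `P / P'`. -/
structure PD (p : ℕ) (P S : Subgroup G) : Prop where
  ne2 : p ≠ 2
  two : IsPGroup 2 S
  norm : S ≤ 𝐍 P
  card : (Nat.card P = p ^ 2 ∧ ⁅P, P⁆ = ⊥ ∧ ∀ x ∈ P, x ^ p = 1) ∨
    (Nat.card P = p ^ 3 ∧ ⁅P, P⁆ ≠ ⊥)
  irr : ∀ U, ⁅P, P⁆ ≤ U → U ≤ P → S ≤ 𝐍 U → U = ⁅P, P⁆ ∨ U = P

variable [Finite G] {p : ℕ} [hp : Fact p.Prime] {P S : Subgroup G}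

/-- An element of order dividing `p` centralising an elementary abelian subgroup of order at least
`p ^ 2` in a group of rank at most two lies in that subgroup. -/
theorem mem_of_rank_two {H E : Subgroup G} (hr : PRankLE p 2 H) (hE : IsElementaryAbelian p E)
    (hEH : E ≤ H) (hc : p ^ 2 ≤ Nat.card E) {a : G} (ha : a ∈ H) (hap : a ^ p = 1)
    (haE : a ∈ 𝐂 E) : a ∈ E := by
  by_contra h
  have h1 := PG.card_sup_zpowers hp.out (cent_sub E haE) h (hap ▸ E.one_mem)
  have h2 := card_le_of_pRankLE hr (isElementaryAbelian_sup_zpowers hE haE hap)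
    (sup_le hEH (zpowers_le.2 ha))
  have := hp.out.two_le
  nlinarith [pow_pos hp.out.pos 2]

namespace PD

theorem isP (h : PD p P S) : IsPGroup p P := by
  rcases h.card with h | h <;> exact IsPGroup.of_card h.1

theorem odd (h : PD p P S) : Odd (Nat.card P) := odd_card_of_isPGroup h.ne2 h.isP

theorem na (hc : ⁅P, P⁆ ≠ ⊥) : ¬ IsMulCommutative P := fun h => hc (abelian_iff_der.1 h)

theorem card_eq (h : PD p P S) : Nat.card P = p ^ 2 * Nat.card ↥⁅P, P⁆ := by
  rcases h.card with h | h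
  · rw [h.2.1, h.1]; simp
  · rw [(p3group_center h.1 (na h.2)).2, h.1, pow_succ]

theorem cardZ_le (h : PD p P S) : Nat.card ↥⁅P, P⁆ ≤ p := by
  rcases h.card with h | h
  · rw [h.2.1]; simpa using hp.out.one_le
  · rw [(p3group_center h.1 (na h.2)).2]

theorem cardZ (h : PD p P S) (hne : ⁅P, P⁆ ≠ ⊥) : Nat.card ↥⁅P, P⁆ = p := by
  rcases h.card with h | h
  · exact absurd h.2.1 hne
  · exact (p3group_center h.1 (na h.2)).2

theorem center_eq (h : PD p P S) (hne : ⁅P, P⁆ ≠ ⊥) : P ⊓ 𝐂 P = ⁅P, P⁆ := by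
  rcases h.card with h | h
  · exact absurd h.2.1 hne
  · exact (p3group_center h.1 (na h.2)).1

theorem Z_cent (h : PD p P S) : ⁅P, P⁆ ≤ 𝐂 P := by
  by_cases hne : ⁅P, P⁆ = ⊥
  · rw [hne]; exact bot_le
  · rw [← h.center_eq hne]; exact inf_le_right

theorem comm_Z (h : PD p P S) {x a : G} (hx : x ∈ P) (ha : a ∈ ⁅P, P⁆) : x * a = a * x :=
  mem_cent.1 (h.Z_cent ha) x hx

theorem normZ (h : PD p P S) : S ≤ 𝐍 ⁅P, P⁆ := norms_der h.norm

theorem pow_mem_of_card (h : (Nat.card P = p ^ 2 ∧ ⁅P, P⁆ = ⊥ ∧ ∀ x ∈ P, x ^ p = 1) ∨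
    (Nat.card P = p ^ 3 ∧ ⁅P, P⁆ ≠ ⊥)) {x : G} (hx : x ∈ P) : x ^ p ∈ ⁅P, P⁆ := by
  rcases h with h' | h'
  · rw [h'.2.2 x hx]; exact one_mem _
  · obtain ⟨⟨h0, h1, h2⟩, -⟩ := p3group_extraspecial h'.1 (na h'.2)
    have := pow_mem_map_frattini h0 hx
    rwa [h1, ← h2, map_commutator_top] at this

theorem powP_mem (h : PD p P S) {x : G} (hx : x ∈ P) : x ^ p ∈ ⁅P, P⁆ := pow_mem_of_card h.card hx

theorem powZ (h : PD p P S) {a : G} (ha : a ∈ ⁅P, P⁆) : a ^ p = 1 := by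
  by_cases hne : ⁅P, P⁆ = ⊥
  · rw [hne, mem_bot] at ha; rw [ha, one_pow]
  · rw [← h.cardZ hne]
    exact congrArg Subtype.val (pow_card_eq_one' (x := (⟨a, ha⟩ : ↥⁅P, P⁆)))

theorem not_le (h : PD p P S) : ¬ P ≤ ⁅P, P⁆ := fun hle => by
  have h1 := card_le_of_le hle
  have h2 := h.card_eq
  have h3 := cardG_gt0 ⁅P, P⁆
  have h4 : 1 < p ^ 2 := Nat.one_lt_pow two_ne_zero hp.out.one_lt
  nlinarith

theorem ne_bot (h : PD p P S) : P ≠ ⊥ := fun e => h.not_le (e ▸ bot_le)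

theorem exists_not_mem (h : PD p P S) : ∃ x ∈ P, x ∉ ⁅P, P⁆ := by
  simpa [SetLike.le_def] using h.not_le

theorem irr' (h : PD p P S) {U : Subgroup G} (hU : U ≤ P) (hS : S ≤ 𝐍 U) :
    U = P ∨ U ≤ ⁅P, P⁆ := by
  rcases h.irr (U ⊔ ⁅P, P⁆) le_sup_right (sup_le hU (der_sub P)) (normsY hS h.normZ) with e | e
  · exact .inr (le_sup_left.trans e.le)
  · refine .inl (le_antisymm hU ?_)
    have hn : P ≤ 𝐍 U := by
      rw [← e]
      exact sup_le (normG U) (cents_norm (centSS hU le_rfl h.Z_cent))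
    exact PG.le_of_le_sup_commutator (pgroup_nil h.isP) le_rfl hn e.ge

theorem eq_of_card (h : PD p P S) {U : Subgroup G} (hU : U ≤ P) (hS : S ≤ 𝐍 U)
    (hc : Nat.card P ≤ p * Nat.card U) : U = P := by
  rcases h.irr' hU hS with e | e
  · exact e
  · have h1 := card_le_of_le e
    have h2 := h.card_eq
    have h3 := cardG_gt0 ⁅P, P⁆
    have h4 := hp.out.two_le
    have h5 : p * (p * Nat.card ↥⁅P, P⁆) ≤ p * Nat.card U := by rw [← mul_assoc, ← sq, ← h2]; exact hc
    have h6 := Nat.le_of_mul_le_mul_left h5 hp.out.pos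
    nlinarith

theorem card_line (h : PD p P S) {x : G} (hx : x ∈ P) (hxZ : x ∉ ⁅P, P⁆) :
    Nat.card ↥(⁅P, P⁆ ⊔ zpowers x) = p * Nat.card ↥⁅P, P⁆ :=
  PG.card_sup_zpowers hp.out (commg_norml P P hx) hxZ (h.powP_mem hx)

/-- No line of `P / P'` is invariant. -/
theorem not_line (h : PD p P S) {x : G} (hx : x ∈ P) (hxZ : x ∉ ⁅P, P⁆) :
    ¬ S ≤ 𝐍 (⁅P, P⁆ ⊔ zpowers x) := fun hS => by
  have h1 := h.card_line hx hxZ
  have h2 := h.card_eq
  rcases h.irr _ le_sup_left (sup_le (der_sub P) (zpowers_le.2 hx)) hS with e | e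
  · exact hxZ (e ▸ mem_sup_right (mem_zpowers x))
  · rw [e, h2] at h1
    have h3 := cardG_gt0 ⁅P, P⁆
    have h4 := hp.out.two_le
    have h5 := Nat.eq_of_mul_eq_mul_right h3 h1
    nlinarith

theorem exists_inv (h : PD p P S) : ∃ z ∈ S, ∀ x ∈ P, x * (z * x * z⁻¹) ∈ ⁅P, P⁆ := by
  have hZ : ∀ x : P, x ∈ _root_.commutator P ↔ (x : G) ∈ ⁅P, P⁆ := fun x => by
    rw [← map_commutator_top]
    exact (mem_map_iff_mem Subtype.val_injective).symm
  have hinv : ∀ a : S, ∀ x ∈ _root_.commutator P, conjAutOf P S h.norm a x ∈ _root_.commutator P :=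
    fun a x hx => by
      rw [hZ] at hx ⊢
      rw [coe_conjAutOf_apply]
      exact (memJ_norm (h.normZ a.2)).2 hx
  obtain ⟨a, ha⟩ := exists_inverting (V := P ⧸ _root_.commutator P)
    (fun a b => (Subgroup.Normal.quotient_commutative_iff_commutator_le.2 le_rfl).is_comm.comm a b)
    h.two (Coprime.quotAut (conjAutOf P S h.norm) _ hinv) (fun U hU => by
      set U' := (U.comap (QuotientGroup.mk' (_root_.commutator P))).map P.subtype with hU'
      have hm : ∀ x : P, (x : G) ∈ U' ↔ (x : P ⧸ _root_.commutator P) ∈ U := fun x =>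
        mem_map_iff_mem Subtype.val_injective
      rcases h.irr U' (fun x hx => by
          have := (hm ⟨x, der_sub P hx⟩).2 (by
            rw [(QuotientGroup.eq_one_iff _).2 ((hZ ⟨x, der_sub P hx⟩).2 hx)]; exact one_mem _)
          exact this) (map_subtype_le _)
        ((conjAutOf_invariant_iff' h.norm _).1 fun a x hx => by
          have := hU a _ hx
          rw [QuotientGroup.mk'_apply, Coprime.quotAut_mk] at this
          exact this) with e | e
      · refine .inl (eq_bot_iff.2 fun v hv => ?_)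
        obtain ⟨x, rfl⟩ := QuotientGroup.mk_surjective v
        rw [mem_bot, QuotientGroup.eq_one_iff, hZ, ← e, hm]
        exact hv
      · refine .inr (eq_top_iff.2 fun v _ => ?_)
        obtain ⟨x, rfl⟩ := QuotientGroup.mk_surjective v
        rw [← hm, e]
        exact x.2) (fun hc => by
      obtain ⟨v, hv⟩ := hc.exists_generator
      obtain ⟨x, rfl⟩ := QuotientGroup.mk_surjective v
      have hle : P ≤ ⁅P, P⁆ ⊔ zpowers (x : G) := fun y hy => by
        obtain ⟨n, hn⟩ := hv (((⟨y, hy⟩ : P)) : P ⧸ _root_.commutator P)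
        have h1 : (x ^ n)⁻¹ * ⟨y, hy⟩ ∈ _root_.commutator P := by
          rw [← QuotientGroup.eq, ← hn]; rfl
        rw [hZ] at h1
        have h2 : y = (x : G) ^ n * (((x ^ n)⁻¹ * ⟨y, hy⟩ : P) : G) := by simp
        rw [h2]
        exact mul_mem (mem_sup_right (zpow_mem (mem_zpowers _) n)) (mem_sup_left h1)
      have he : ⁅P, P⁆ ⊔ zpowers (x : G) = P :=
        le_antisymm (sup_le (der_sub P) (zpowers_le.2 x.2)) hle
      have hxZ : (x : G) ∉ ⁅P, P⁆ := fun hx =>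
        h.not_le (hle.trans (sup_le le_rfl (zpowers_le.2 hx)))
      exact h.not_line x.2 hxZ (he.symm ▸ h.norm))
  refine ⟨a, a.2, fun x hx => ?_⟩
  have := ha ((⟨x, hx⟩ : P) : P ⧸ _root_.commutator P)
  rw [Coprime.quotAut_mk, ← QuotientGroup.mk_mul, QuotientGroup.eq_one_iff, hZ] at this
  exact this

/-- Commutators are bilinear modulo nothing: `P` has class at most two. -/
theorem comm_mul_left (h : PD p P S) {x y w : G} (hx : x ∈ P) (hy : y ∈ P) (hw : w ∈ P) :
    ⁅x * y, w⁆ = ⁅y, w⁆ * ⁅x, w⁆ :=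
  comm_mul_left' (h.comm_Z hx (commutator_mem_commutator hy hw))

theorem comm_mul_right (h : PD p P S) {x y w : G} (hx : x ∈ P) (hy : y ∈ P) (hw : w ∈ P) :
    ⁅w, x * y⁆ = ⁅w, x⁆ * ⁅w, y⁆ :=
  comm_mul_right' (h.comm_Z hx (commutator_mem_commutator hw hy))

theorem comm_Z_left (h : PD p P S) {a w : G} (ha : a ∈ ⁅P, P⁆) (hw : w ∈ P) : ⁅a, w⁆ = 1 :=
  commutatorElement_eq_one_iff_mul_comm.2 (h.comm_Z hw ha).symm

theorem comm_Z_right (h : PD p P S) {a w : G} (ha : a ∈ ⁅P, P⁆) (hw : w ∈ P) : ⁅w, a⁆ = 1 :=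
  commutatorElement_eq_one_iff_mul_comm.2 (h.comm_Z hw ha)

/-- An element inverting `P / P'` centralises `P'`. -/
theorem inv_cent (h : PD p P S) {z : G} (hzP : z ∈ 𝐍 P)
    (hz : ∀ x ∈ P, x * (z * x * z⁻¹) ∈ ⁅P, P⁆) : z ∈ 𝐂 ⁅P, P⁆ := by
  have key : ∀ x ∈ P, ∀ y ∈ P, z * ⁅x, y⁆ * z⁻¹ = ⁅x, y⁆ := fun x hx y hy => by
    have hx' := (memJ_norm hzP).2 hx
    have hy' := (memJ_norm hzP).2 hy
    have h1 := h.comm_mul_left hx hx' hy'
    rw [h.comm_Z_left (hz x hx) hy'] at h1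
    have h2 := h.comm_mul_right hy hy' hx
    rw [h.comm_Z_right (hz y hy) hx] at h2
    rw [conj_comm, eq_inv_of_mul_eq_one_left h1.symm, eq_inv_of_mul_eq_one_left h2.symm]
  rw [← le_cent1_iff, commutator_le]
  intro x hx y hy
  rw [mem_cent1]
  have := key x hx y hy
  rw [mul_inv_eq_iff_eq_mul] at this
  exact this.symm

theorem pow_eq_one (h : PD p P S) {x : G} (hx : x ∈ P) : x ^ p = 1 := by
  obtain ⟨z, hzS, hz⟩ := h.exists_inv
  have hc := h.inv_cent (h.norm hzS) hz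
  have h1 : z * x ^ p * z⁻¹ = x ^ p := by
    rw [← mem_cent.1 hc _ (h.powP_mem hx), mul_inv_cancel_right]
  have h2 : z * x * z⁻¹ = x⁻¹ * (x * (z * x * z⁻¹)) := by group
  have h3 : Commute x⁻¹ (x * (z * x * z⁻¹)) := h.comm_Z (inv_mem hx) (hz x hx)
  rw [← conj_pow, h2, h3.mul_pow, h.powZ (hz x hx), mul_one, inv_pow, inv_eq_iff_mul_eq_one,
    ← sq] at h1
  have h4 := h.powZ (h.powP_mem hx)
  have h5 : Nat.Coprime 2 p := (Nat.coprime_primes Nat.prime_two hp.out).2 h.ne2.symm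
  have h6 := Nat.dvd_gcd (orderOf_dvd_of_pow_eq_one h1) (orderOf_dvd_of_pow_eq_one h4)
  rw [h5, Nat.dvd_one, orderOf_eq_one_iff] at h6
  exact h6

theorem exists_elem (h : PD p P S) :
    ∃ E ≤ P, IsElementaryAbelian p E ∧ Nat.card E = p ^ 2 ∧ ⁅P, P⁆ ≤ E := by
  by_cases hne : ⁅P, P⁆ = ⊥
  · refine ⟨P, le_rfl, ⟨abelian_iff_der.2 hne, fun x hx => h.pow_eq_one hx⟩, ?_, der_sub P⟩
    rw [h.card_eq, hne]; simp
  · obtain ⟨x, hx, hxZ⟩ := h.exists_not_mem
    refine ⟨⁅P, P⁆ ⊔ zpowers x, sup_le (der_sub P) (zpowers_le.2 hx), ?_, ?_, le_sup_left⟩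
    · exact isElementaryAbelian_sup_zpowers (prime_abelem (h.cardZ hne)) (centsC.1 h.Z_cent hx)
        (h.pow_eq_one hx)
    · rw [h.card_line hx hxZ, h.cardZ hne, sq]

theorem mem_of_sq_mem (h : PD p P S) {x : G} (hx : x ∈ P) {U : Subgroup G} (h2 : x * x ∈ U) :
    x ∈ U :=
  mem_of_pow_mem_of_coprime (n := 2) (by rwa [sq]) (Nat.Coprime.coprime_dvd_left
    (orderOf_dvd_of_pow_eq_one (h.pow_eq_one hx))
    ((Nat.coprime_primes hp.out Nat.prime_two).2 h.ne2))

/-- An element of order dividing `p` centralising `P` in a group of rank at most two lies in the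
centre of `P`. -/
theorem mem_of_cent (h : PD p P S) {H : Subgroup G} (hr : PRankLE p 2 H) (hPH : P ≤ H) {a : G}
    (ha : a ∈ H) (hap : a ^ p = 1) (haP : a ∈ 𝐂 P) : a ∈ P := by
  obtain ⟨E, hEP, hE, hc, -⟩ := h.exists_elem
  exact hEP (mem_of_rank_two hr hE (hEP.trans hPH) hc.ge ha hap (centS hEP haP))

theorem map {H : Type*} [Group H] [Finite H] (h : PD p P S) (f : G →* H)
    (hf : P ⊓ f.ker = ⊥) : PD p (P.map f) (S.map f) := by
  have hc : ∀ U ≤ P, Nat.card (U.map f) = Nat.card U := fun U hU => by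
    have : Function.Injective (f.subgroupMap U) := by
      rw [injective_iff_map_eq_one]
      intro a ha
      have h1 : f a = 1 := congrArg Subtype.val ha
      have h2 : (a : G) ∈ P ⊓ f.ker := ⟨hU a.2, h1⟩
      rw [hf] at h2
      exact Subtype.ext h2
    exact (Nat.card_eq_of_bijective _ ⟨this, f.subgroupMap_surjective U⟩).symm
  refine ⟨h.ne2, h.two.map f, norms_map h.norm f, ?_, fun U h1 h2 h3 => ?_⟩
  · rw [← map_commutator]
    rcases h.card with h' | h'
    · refine .inl ⟨by rw [hc P le_rfl, h'.1], by rw [h'.2.1, Subgroup.map_bot], ?_⟩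
      rintro _ ⟨x, hx, rfl⟩
      rw [← map_pow, h'.2.2 x hx, map_one]
    · refine .inr ⟨by rw [hc P le_rfl, h'.1], fun e => h'.2 ?_⟩
      rw [trivg_card1, ← hc _ (der_sub P), e, card_bot]
  · rw [← map_commutator] at h1 ⊢
    have he : (U.comap f ⊓ P).map f = U := by
      refine le_antisymm (map_le_iff_le_comap.2 inf_le_left) fun u hu => ?_
      obtain ⟨x, hx, rfl⟩ := h2 hu
      exact ⟨x, ⟨hu, hx⟩, rfl⟩
    rcases h.irr (U.comap f ⊓ P) (le_inf (map_le_iff_le_comap.1 h1) (der_sub P)) inf_le_right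
      (normsI (normsP.2 fun a ha u hu => by
        rw [mem_comap] at hu ⊢
        rw [map_mul, map_mul, map_inv]
        exact normsP.1 h3 _ (mem_map_of_mem f ha) _ hu) h.norm) with e | e
    · exact .inl (by rw [← he, e])
    · exact .inr (by rw [← he, e])

theorem of_map {H : Type*} [Group H] [Finite H] {f : G →* H} (hf : Function.Injective f)
    (h : PD p (P.map f) (S.map f)) : PD p P S := by
  have hn : ∀ U : Subgroup G, S.map f ≤ 𝐍 (U.map f) → S ≤ 𝐍 U := fun U hU =>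
    normsP.2 fun a ha u hu => by
      have := normsP.1 hU _ (mem_map_of_mem f ha) _ (mem_map_of_mem f hu)
      rw [← map_inv, ← map_mul, ← map_mul] at this
      exact (mem_map_iff_mem hf).1 this
  refine ⟨h.ne2, h.two.of_equiv (S.equivMapOfInjective f hf).symm, hn P h.norm, ?_,
    fun U h1 h2 h3 => ?_⟩
  · have hc := h.card
    rw [← map_commutator, card_map_of_injective hf, ne_eq, map_eq_bot_iff_of_injective _ hf] at hc
    rcases hc with h' | h'
    · refine .inl ⟨h'.1, h'.2.1, fun x hx => hf ?_⟩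
      rw [map_pow, h'.2.2 _ (mem_map_of_mem f hx), map_one]
    · exact .inr h'
  · have := h.irr (U.map f) (by rw [← map_commutator]; exact map_mono h1) (map_mono h2)
      (norms_map h3 f)
    rw [← map_commutator] at this
    exact this.imp (fun e => map_injective hf e) fun e => map_injective hf e

theorem subgroupOf (h : PD p P S) {M : Subgroup G} (hP : P ≤ M) (hS : S ≤ M) :
    PD p (P.subgroupOf M) (S.subgroupOf M) := by
  apply of_map (f := M.subtype) Subtype.val_injective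
  rwa [map_subgroupOf_eq_of_le hP, map_subgroupOf_eq_of_le hS]

end PD

end Cfsg.Lib.QT
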