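import Cfsg.Agent.QT.XiPD
import Cfsg.Agent.Solv.ActionTransport

/-!
The group `P` of the configuration `PD` acts trivially on every elementary abelian section of
rank at most two.
-/

set_option autoImplicit false
set_option linter.unusedSectionVars false
set_option linter.unusedVariables false

open Pointwise Cfsg Cfsg.Lib.Solv Cfsg.Lib.FT Cfsg.Lib.FT.BG4 Subgroup
open scoped commutatorElement

namespace Cfsg.Lib.QT

universe u

theorem eq_one_of_pow_coprime {A : Type*} [Group A] {a : A} {m n : ℕ} (h : m.Coprime n)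
    (h1 : a ^ m = 1) (h2 : a ^ n = 1) : a = 1 := by
  have h6 := Nat.dvd_gcd (orderOf_dvd_of_pow_eq_one h1) (orderOf_dvd_of_pow_eq_one h2)
  rwa [h, Nat.dvd_one, orderOf_eq_one_iff] at h6

/-- A real element of odd prime order `p ≠ r` of `GL₂(r)` has no fixed points. -/
theorem gl2_eq_one {r p : ℕ} [hr : Fact r.Prime] {V : Type*} [Group V] [Finite V] [ElemAb r V]
    (h : Nat.card V ≤ r ^ 2) {b ζ : MulAut V} (hp : p.Prime) (hp2 : p ≠ 2) (hpr : p ≠ r)
    (hb : b ^ p = 1) (hζ : ζ * b * ζ⁻¹ = b⁻¹) {v : V} (hv : v ≠ 1) (hbv : b v = v) : b = 1 := by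
  let U : Subgroup V := b.toMonoidHom.eqLocus (MonoidHom.id V)
  have hU : ∀ v, v ∈ U ↔ b v = v := fun v => Iff.rfl
  have hUn : U.Normal := ElemAb.normal r U
  let A : Subgroup (MulAut V) :=
    { carrier := {α | ∀ x, α x ∈ U ↔ x ∈ U}
      one_mem' := fun x => Iff.rfl
      mul_mem' := fun {α β} ha hb x => (ha (β x)).trans (hb x)
      inv_mem' := fun {α} ha x => by
        have := ha (α⁻¹ x)
        rw [MulAut.apply_inv_self] at this
        exact this.symm }
  have hbA : b ∈ A := fun x => by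
    rw [hU, hU]
    exact b.injective.eq_iff
  have hζ' : b * ζ = ζ * b⁻¹ := by
    have : (ζ * b * ζ⁻¹)⁻¹ = b := by rw [hζ, inv_inv]
    calc b * ζ = (ζ * b * ζ⁻¹)⁻¹ * ζ := by rw [this]
      _ = _ := by group
  have hζA : ζ ∈ A := fun x => by
    rw [hU, hU, ← MulAut.mul_apply, hζ', MulAut.mul_apply, ζ.injective.eq_iff,
      ← b.injective.eq_iff, MulAut.apply_inv_self, eq_comm]
  have hc : IsCyclic (V ⧸ U) := by
    have h1 := card_eq_card_quotient_mul_card_subgroup U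
    obtain ⟨m, hm⟩ := IsPGroup.iff_card.1 (ElemAb.isPGroup r U)
    obtain ⟨n, hn⟩ := IsPGroup.iff_card.1 (ElemAb.isPGroup r (V ⧸ U))
    have hm0 : m ≠ 0 := by
      rintro rfl
      have : U = ⊥ := trivg_card1.2 (by simpa using hm)
      exact hv (mem_bot.1 (this ▸ (hU v).2 hbv))
    rw [h1, hm, hn, ← pow_add] at h
    have h2 := (Nat.pow_le_pow_iff_right hr.out.one_lt).1 h
    exact isCyclic_of_card_dvd_prime (p := r) (by
      rw [hn]
      exact (pow_dvd_pow r (by omega : n ≤ 1)).trans (by rw [pow_one]))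
  let φ := Coprime.quotAut A.subtype U (fun a x hx => (a.2 x).2 hx)
  have h1 : φ ⟨b, hbA⟩ = 1 := by
    have h2 : φ ⟨ζ, hζA⟩ * φ ⟨b, hbA⟩ * (φ ⟨ζ, hζA⟩)⁻¹ = (φ ⟨b, hbA⟩)⁻¹ := by
      rw [← map_inv, ← map_inv, ← map_mul, ← map_mul]
      exact congrArg φ (Subtype.ext hζ)
    rw [mulAut_comm_of_isCyclic (φ ⟨ζ, hζA⟩), mul_inv_cancel_right, eq_inv_iff_mul_eq_one,
      ← sq] at h2
    refine eq_one_of_pow_coprime ((Nat.coprime_primes Nat.prime_two hp).2 hp2.symm) h2 ?_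
    rw [← map_pow, ← map_one φ]
    exact congrArg φ (Subtype.ext hb)
  have h3 : ∀ x, b x * x⁻¹ ∈ U := (Coprime.mem_ker_quotAut _ _ _ _).1 h1
  have h4 : ∀ x (n : ℕ), (b ^ n) x = (b x * x⁻¹) ^ n * x := fun x n => by
    induction n with
    | zero => simp
    | succ n ih =>
      rw [pow_succ', MulAut.mul_apply, ih, map_mul, map_pow, (hU _).1 (h3 x), pow_succ]
      group
  refine eq_one_of_pow_coprime ((Nat.coprime_primes hp hr.out).2 hpr) hb (MulEquiv.ext fun x => ?_)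
  rw [h4, ElemAb.pow_eq_one, one_mul, MulAut.one_apply]

theorem not_sq_dvd_card_mulAut {r : ℕ} [hr : Fact r.Prime] {V : Type*} [Group V] [Finite V]
    [ElemAb r V] (h : Nat.card V ≤ r ^ 2) : ¬ r ^ 2 ∣ Nat.card (MulAut V) := fun hd => by
  obtain ⟨n, hn2, hn⟩ := exists_card_eq_pow_le_two (ElemAb.isPGroup r V) h
  rw [Vec.card_mulAut hn] at hd
  have h2 := hr.out.two_le
  have h1 : ¬ r ∣ r - 1 := fun h => by
    have := Nat.le_of_dvd (by omega) h
    omega
  have h3 : ¬ r ∣ r ^ 2 - 1 := fun h => by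
    have h4 : r ∣ r ^ 2 := dvd_pow_self r two_ne_zero
    have h5 := (Nat.dvd_sub_iff_right (Nat.one_le_pow 2 r (by omega)) h4).1 h
    exact hr.out.one_lt.ne' (Nat.dvd_one.1 h5)
  interval_cases n
  · simp at hd
    omega
  · simp at hd
    exact h1 ((dvd_pow_self r two_ne_zero).trans hd)
  · simp only [Fin.prod_univ_two, Fin.val_zero, pow_zero, Fin.val_one, pow_one] at hd
    have : r ^ 2 - r = r * (r - 1) := by rw [Nat.mul_sub_one, sq]
    rw [this, mul_left_comm, sq r, Nat.mul_dvd_mul_iff_left hr.out.pos, ← sq] at hd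
    rcases (Nat.Prime.dvd_mul hr.out).1 hd with h | h
    · exact h3 h
    · exact h1 h

variable {G : Type*} [Group G] [Finite G] {p : ℕ} [hp : Fact p.Prime] {P S : Subgroup G}

namespace PD

theorem le_ker_of_card (h : PD p P S) {B : Type*} [Group B] (ψ : G →* B)
    (hc : Nat.card (P.map ψ) ≤ p) : P ≤ ψ.ker := by
  have h1 := PG.relIndex_mul_card_inf ψ.ker P
  rw [relIndex_ker] at h1
  have := h.eq_of_card (U := ψ.ker ⊓ P) inf_le_right
    (normsI (le_normalizer_of_normal) h.norm) (h1 ▸ Nat.mul_le_mul_right _ hc)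
  exact this.ge.trans inf_le_left

theorem le_ker (h : PD p P S) {r : ℕ} [hr : Fact r.Prime] {V : Type*} [Group V] [Finite V]
    [ElemAb r V] (hV : Nat.card V ≤ r ^ 2) (ψ : G →* MulAut V) : P ≤ ψ.ker := by
  apply h.le_ker_of_card
  have hA : IsPGroup p (P.map ψ) := h.isP.map ψ
  by_cases hpr : p = r
  · subst hpr
    obtain ⟨m, hm⟩ := pgroup_card_pow hA
    have h1 : ¬ 2 ≤ m := fun h2 => not_sq_dvd_card_mulAut hV
      ((pow_dvd_pow p h2).trans (hm ▸ card_subgroup_dvd_card _))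
    rw [hm]
    exact (Nat.pow_le_pow_right hp.out.pos (by omega : m ≤ 1)).trans (pow_one p).le
  have hcop : ∀ m n : ℕ, (p ^ m).Coprime (r ^ n) := fun m n =>
    Nat.coprime_pow_primes m n hp.out hr.out hpr
  have hab : ⁅P.map ψ, P.map ψ⁆ = ⊥ := by
    have h1 := isPGroup_commutator_of_elemAb hV (P.map ψ) (odd_card_of_isPGroup h.ne2 hA)
    have h2 := isPGroupS (der_sub _) hA
    obtain ⟨m, hm⟩ := pgroup_card_pow h1
    obtain ⟨n, hn⟩ := pgroup_card_pow h2
    rw [trivg_card1]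
    have := hcop n m
    rwa [← hm, ← hn, Nat.coprime_self] at this
  have hE : IsElementaryAbelian p (P.map ψ) := ⟨abelian_iff_der.2 hab, by
    rintro _ ⟨x, hx, rfl⟩
    rw [← map_pow, h.pow_eq_one hx, map_one]⟩
  rw [← abelem_cyclic hE]
  by_contra hnc
  obtain ⟨z, hzS, hz⟩ := h.exists_inv
  have := hE.1
  have h1 : (⊤ : Subgroup V) ≤ ⊥ := Act.le_of_forall_fix_zpowers (φ := MonoidHom.id (MulAut V))
    hnc (Act.inv_top _) (by
      obtain ⟨m, hm⟩ := pgroup_card_pow hA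
      obtain ⟨n, hn⟩ := IsPGroup.iff_card.1 (ElemAb.isPGroup r V)
      rw [hm, card_top, hn]
      exact hcop m n) (by
      rintro _ ⟨x, hx, rfl⟩ h1 v ⟨-, hv⟩
      rw [mem_bot]
      by_contra hv1
      refine h1 (gl2_eq_one hV (ζ := ψ z) hp.out h.ne2 hpr (hE.2 _ ⟨x, hx, rfl⟩) ?_ hv1
        ((Act.mem_fix_zpowers (φ := MonoidHom.id (MulAut V))).1 hv))
      have h2 := mem_map_of_mem ψ (hz x hx)
      rw [map_commutator, hab, mem_bot, map_mul, map_mul, map_mul, map_inv] at h2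
      exact eq_inv_of_mul_eq_one_right h2)
  have : Subsingleton V := ⟨fun a b => by rw [mem_bot.1 (h1 (mem_top a)), mem_bot.1 (h1 (mem_top b))]⟩
  have : Subsingleton (MulAut V) := ⟨fun a b => MulEquiv.ext fun x => Subsingleton.elim _ _⟩
  exact hnc inferInstance

/-- `P` lies in a normal subgroup inducing an `r`-group on the normal `r`-subgroup `R`. -/
theorem exists_normal_pow_cent (h : PD p P S) {r : ℕ} [hr : Fact r.Prime] (hr2 : r ≠ 2)
    {R : Subgroup G} [R.Normal] (hR : IsPGroup r R) (hk : PRankLE r 2 R) :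
    ∃ N : Subgroup G, N.Normal ∧ P ≤ N ∧ ∀ x ∈ N, ∃ k : ℕ, x ^ r ^ k ∈ 𝐂 R := by
  obtain ⟨V, _, _, _, θ, hV, hθ⟩ := exists_rep_rank2 hr2 hR hk
  refine ⟨(θ.comp MulAut.conjNormal).ker, inferInstance, h.le_ker hV _, fun x hx => ?_⟩
  obtain ⟨k, hk⟩ := hθ ⟨MulAut.conjNormal x, hx⟩
  refine ⟨k, mem_cent.2 fun a ha => ?_⟩
  have h1 : (MulAut.conjNormal (x ^ r ^ k) : MulAut R) = 1 := by
    rw [map_pow]; exact congrArg Subtype.val hk
  have h2 := congrArg Subtype.val (DFunLike.congr_fun h1 ⟨a, ha⟩)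
  rw [MulAut.conjNormal_apply, mul_inv_eq_iff_eq_mul] at h2
  exact h2.symm

theorem le_cent_of_ne (h : PD p P S) {r : ℕ} [hr : Fact r.Prime] (hr2 : r ≠ 2) (hrp : p ≠ r)
    {R : Subgroup G} [R.Normal] (hR : IsPGroup r R) (hk : PRankLE r 2 R) : P ≤ 𝐂 R := by
  obtain ⟨N, -, hPN, hN⟩ := h.exists_normal_pow_cent hr2 hR hk
  refine le_of_forall_pow_mem_of_coprime (p := r) (fun x hx => hN x (hPN hx)) ?_
  obtain ⟨m, hm⟩ := pgroup_card_pow h.isP
  rw [hm]
  exact Nat.Coprime.pow_left m ((Nat.coprime_primes hp.out hr.out).2 hrp)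

end PD

end Cfsg.Lib.QT
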